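import Groth.Agent.CohCmpLib.PullAbComp
import Groth.Agent.CohCmpLib.PullOnComp
import Groth.Agent.CohCmpLib.PullZero
import Groth.Agent.RpushLib.Flasque

/-!
Pullback of cohomology classes along a morphism with a section is injective.
-/

universe u

set_option autoImplicit false
set_option maxHeartbeats 1000000
set_option backward.isDefEq.respectTransparency false

open CategoryTheory CategoryTheory.Limits AlgebraicGeometry TopologicalSpace Opposite
open QCohLib (toAbF)
open CohCmpLib

namespace LerayLowLib

variable {X Y : Scheme.{u}}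

theorem subsingleton_HC_injective (I : X.Modules) [Injective I] (p : ℕ) : Subsingleton (HC X I (p + 1)) := by
  haveI := RpushLib.isFlasque_toAb_injective I
  exact (QCohLib.subsingleton_H_iff _ _).2 (QCohLib.subsingleton_of_isFlasque p (Coh.toAb I) ⊤)

/-- Pullback of classes along the identity. -/
theorem hp_id (p : ℕ) : ∀ (M : X.Modules) (x : HC X M p),
    hm ((Scheme.Modules.pullbackId X).hom.app M) p (hp (𝟙 X) M p x) = x := by
  induction p with
  | zero =>
    intro M x
    apply (h0E M).injective
    refine (h0E_hm ((Scheme.Modules.pullbackId X).hom.app M) _).trans ?_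
    rw [h0E_hp]
    have h := pullbackId_puSecLE M (le_refl (⊤ : X.Opens)) (h0E M x)
    have h2 := puSecLE_refl (𝟙 X) M (U := (⊤ : X.Opens)) le_rfl (h0E M x)
    exact ((congrArg (fun z => ((Scheme.Modules.pullbackId X).hom.app M).app ⊤ z) h2.symm).trans h).trans
      congr($((M.presheaf).map_id (op ⊤)) (h0E M x))
  | succ p ih =>
    intro M x
    obtain ⟨⟨I, hI, f, hf⟩⟩ := EnoughInjectives.presentation M
    haveI := hI
    haveI := hf
    let S : ShortComplex X.Modules := ShortComplex.mk f (cokernel.π f) (cokernel.condition f)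
    have hS : S.ShortExact :=
      { exact := ShortComplex.exact_cokernel f, mono_f := hf, epi_g := inferInstanceAs (Epi (cokernel.π f)) }
    haveI := subsingleton_HC_injective I p
    obtain ⟨y, rfl⟩ := hd_exact₁ hS p x (Subsingleton.elim (α := HC X I (p + 1)) _ _)
    have hS' : (S.map (Scheme.Modules.pullback (𝟙 X))).ShortExact :=
      ShortComplex.shortExact_of_iso (S.mapNatIso (Scheme.Modules.pullbackId X)).symm
        (ShortComplex.shortExact_of_iso (Iso.refl S) hS)
    have h1 : hp (𝟙 X) S.X₁ (p + 1) (hd hS p y) = hd hS' p (hp (𝟙 X) S.X₃ p y) :=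
      pullMod_delta (𝟙 X) hS hS' p y
    let φ : S.map (Scheme.Modules.pullback (𝟙 X)) ⟶ S :=
      ShortComplex.homMk ((Scheme.Modules.pullbackId X).hom.app S.X₁) ((Scheme.Modules.pullbackId X).hom.app S.X₂)
        ((Scheme.Modules.pullbackId X).hom.app S.X₃)
        ((Scheme.Modules.pullbackId X).hom.naturality S.f).symm
        ((Scheme.Modules.pullbackId X).hom.naturality S.g).symm
    show hm φ.τ₁ (p + 1) (hp (𝟙 X) S.X₁ (p + 1) (hd hS p y)) = hd hS p y
    rw [h1, ← hd_natural hS' hS φ p]
    exact congrArg (hd hS p) (ih S.X₃ y)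

/-- Pullback along a morphism with a section is injective on cohomology. -/
theorem hp_injective (g : X ⟶ Y) (s : Y ⟶ X) (hs : s ≫ g = 𝟙 Y) (M : Y.Modules) (p : ℕ) :
    Function.Injective (hp g M p) := by
  intro x y hxy
  have h : hp (s ≫ g) M p x = hp (s ≫ g) M p y := by rw [← hp_hp, ← hp_hp, hxy]
  have e : ∀ z, hm ((Scheme.Modules.pullbackCongr hs).hom.app M) p (hp (s ≫ g) M p z) = hp (𝟙 Y) M p z :=
    fun z => (hp_congr hs M p z)
  rw [← hp_id p M x, ← hp_id p M y, ← e, ← e, h]

theorem subsingleton_HH_of_section (g : X ⟶ Y) (s : Y ⟶ X) (hs : s ≫ g = 𝟙 Y) (M : Y.Modules) (p : ℕ)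
    (h : Subsingleton (Coh.HH X ((Scheme.Modules.pullback g).obj M) p)) : Subsingleton (Coh.HH Y M p) :=
  haveI : Subsingleton (HC X ((Scheme.Modules.pullback g).obj M) p) := h
  (hp_injective g s hs M p).subsingleton

end LerayLowLib
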