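import Groth.Agent.SheafExLib.LerayBase
import Groth.Agent.RpushLib.Ab

/-!
Vanishing of cohomology in one degree from the antidiagonal of the Leray spectral sequence.
-/

universe u

set_option autoImplicit false
set_option linter.style.haveILetI false

open CategoryTheory CategoryTheory.Limits TopologicalSpace Opposite AlgebraicGeometry

namespace LerayLowLib

/-- If `H^p(Y, R^q f_* F) = 0` whenever `p + q = k`, then `H^k(X, F) = 0`. -/
theorem subsingleton_H_of_antidiagonal {X Y : TopCat.{u}} (f : X ⟶ Y) (F : CohTop.Ab X) (k : ℕ)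
    (h : ∀ p q : ℕ, p + q = k → Subsingleton (CohTop.H ((CohTop.Rpush f q).obj F) p)) :
    Subsingleton (CohTop.H F k) := by
  haveI : (Opens.map f).IsContinuous (Opens.grothendieckTopology Y) (Opens.grothendieckTopology X) :=
    Functor.isContinuous_of_coverPreserving (compatiblePreserving_opens_map f) (coverPreserving_opens_map f)
  haveI : RepresentablyFlat (Opens.map f) := inferInstance
  haveI : PreservesFiniteLimits ((Opens.map f).sheafPullback (Type u) (Opens.grothendieckTopology Y) (Opens.grothendieckTopology X)) :=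
    Functor.SmallCategories.instPreservesFiniteLimitsSheafSheafPullbackOfRepresentablyFlat _ _ _ _
  obtain ⟨E, a, h₁, -, h₃⟩ := Groth.Agent.S6162.result (Opens.grothendieckTopology X)
    (Opens.grothendieckTopology Y) (Opens.map f) F (⊤ : Opens Y)
  have hz : ∀ p q : ℤ, p + q = k → IsZero ((E.page 2 le_rfl).X (p, q)) := fun p q hk => by
    obtain ⟨e⟩ := h₃ p q
    refine IsZero.of_iso ?_ e
    split_ifs with hpq
    · exact @AddCommGrpCat.isZero_of_subsingleton _
        ((QCohLib.subsingleton_H_iff _ _).1 (h p.toNat q.toNat (by omega)))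
    · exact AddCommGrpCat.isZero_of_subsingleton _
  have hgr : ∀ p, a.fil (k : ℤ) (p + 1) = a.fil (k : ℤ) p := fun p => by
    have h' := SpSeqLib.isZero_grPiece_of_isZero_page E 2 le_rfl (p, (k : ℤ) - p) (hz p _ (by simp)) a
    have h'' : ∀ m, m = (k : ℤ) → IsZero (SpSeq.grPiece (a.fil m) (a.anti m) p) →
        IsZero (SpSeq.grPiece (a.fil k) (a.anti k) p) := by rintro m rfl hm; exact hm
    exact SpSeqLib.eq_of_isZero_subquot _ (h'' _ (by simp) h')
  obtain ⟨b, hb⟩ := (h₁ k).2
  obtain ⟨c, hc⟩ := (h₁ k).1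
  have hconst : ∀ d : ℕ, ∀ p : ℤ, a.fil (k : ℤ) (p + d) = a.fil (k : ℤ) p := by
    intro d
    induction d with
    | zero => intro p; simp
    | succ d ih =>
      intro p
      rw [show p + ((d + 1 : ℕ) : ℤ) = (p + d) + 1 by push_cast; ring, hgr, ih]
  have hall : ∀ p q : ℤ, a.fil (k : ℤ) p = a.fil (k : ℤ) q := fun p q => by
    rcases le_total p q with hle | hle
    · obtain ⟨d, rfl⟩ : ∃ d : ℕ, q = p + d := ⟨(q - p).toNat, by omega⟩
      exact (hconst d p).symm
    · obtain ⟨d, rfl⟩ : ∃ d : ℕ, p = q + d := ⟨(p - q).toNat, by omega⟩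
      exact hconst d q
  haveI : IsIso (a.fil (k : ℤ) b).arrow := by rw [hall b c, show a.fil (k : ℤ) c = ⊤ from hc]; infer_instance
  have hz' : IsZero (a.fil (k : ℤ) b : AddCommGrpCat.{u}) := by
    rw [show a.fil (k : ℤ) b = ⊥ from hb]
    exact (isZero_zero _).of_iso Subobject.botCoeIsoZero
  have hz'' := hz'.of_iso (asIso (a.fil (k : ℤ) b).arrow).symm
  have hs := AddCommGrpCat.subsingleton_of_isZero hz''
  simp only [Int.natCast_nonneg, if_true, Int.toNat_natCast] at hs
  exact (QCohLib.subsingleton_H_iff _ _).2 hs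

end LerayLowLib
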